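import Groth.Agent.H88.EtMod.GenericStalk
import Groth.Agent.H88.EtMod.CurveGeneric
import Groth.Agent.Lib.EtSite.PushStalk
import Groth.Agent.Lib.EtSite.UnitStalk
import Groth.Agent.Lib.EtSite.LowLeray
import Groth.Agent.Lib.EtSite.Push

/-!
# Unit along a closed morphism that is an open immersion over a point
-/

set_option autoImplicit false
set_option linter.style.haveILetI false

universe u

open CategoryTheory CategoryTheory.Limits AlgebraicGeometry Opposite CategoryTheory.Abelian

noncomputable section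

namespace Groth.Agent.Lib.NormH2_28.Basic

open Groth.Agent.Lib.EtSite Groth.Agent.Lib.EtSite.Basic Groth.Agent.Lib.EtSite.PushStalk
open Groth.Agent.H88.EtMod

variable {X Y : Scheme.{u}} (f : X ⟶ Y) [UniversallyClosed f] (O : X.Opens) [IsOpenImmersion (O.ι ≫ f)]

theorem germTo_injective {Ω : Type u} [Field Ω] [IsSepClosed Ω] {ξ : Spec (CommRingCat.of Ω) ⟶ Y}
    {ζ : Spec (CommRingCat.of Ω) ⟶ X} (h : ζ ≫ f = ξ)
    (hpre : ∀ z : X, f.base z = ξ.base default → z ∈ O) (H : EtCoh.Ab X) :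
    Function.Injective ((germTo f AddCommGrpCat.{u + 1} h).app H) := by
  have huniq : ∀ ζ' : Spec (CommRingCat.of Ω) ⟶ X, ζ' ≫ f = ξ → ζ' = ζ := by
    intro ζ' h'
    have hr : ∀ (a : Spec (CommRingCat.of Ω) ⟶ X), a ≫ f = ξ → Set.range a.base ⊆ Set.range O.ι.base := by
      intro a ha
      rintro _ ⟨t, rfl⟩
      rw [Scheme.Opens.range_ι, Subsingleton.elim t default]
      exact hpre _ ((Scheme.Hom.comp_apply a f default).symm.trans (by rw [ha]))
    have e : IsOpenImmersion.lift O.ι ζ' (hr _ h') = IsOpenImmersion.lift O.ι ζ (hr _ h) := by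
      rw [← cancel_mono (O.ι ≫ f), ← Category.assoc, ← Category.assoc, IsOpenImmersion.lift_fac,
        IsOpenImmersion.lift_fac, h, h']
    rw [← IsOpenImmersion.lift_fac O.ι ζ' (hr _ h'), ← IsOpenImmersion.lift_fac O.ι ζ (hr _ h), e]
  refine (injective_iff_map_eq_zero ((germTo f AddCommGrpCat.{u + 1} h).app H).hom).2 fun z hz => ?_
  obtain ⟨V, p, s, rfl⟩ := (Scheme.pointSmallEtale ξ).toPresheafFiber_jointly_surjective z
  have h0 : (Scheme.pointSmallEtale ζ).toPresheafFiber _ (liftPt f h V p) H.obj s = 0 :=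
    (germTo_toPresheafFiber f h H V p s).symm.trans hz
  refine (toPresheafFiber_push_ext f H V p (fun w hw => ?_) s 0 fun ξ' h' => ?_).trans (map_zero _)
  · refine ⟨pullback.lift (fiberHom p) ζ ((fiberHom_comp p).trans h.symm), pullback.lift_fst _ _ _, ?_⟩
    let m : pullback V.hom (O.ι ≫ f) ⟶ pullback V.hom f :=
      pullback.map V.hom (O.ι ≫ f) V.hom f (𝟙 _) O.ι (𝟙 _) (by rw [Category.comp_id, Category.id_comp])
        (by rw [Category.comp_id])
    have hm : ∀ w : ↥(pullback V.hom f), (pullback.fst V.hom f).base w = fiberPt p → w ∈ Set.range m.base := by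
      intro w hw
      rw [Scheme.Pullback.range_map]
      refine ⟨⟨(pullback.fst V.hom f).base w, rfl⟩, ?_⟩
      change (pullback.snd V.hom f).base w ∈ Set.range O.ι.base
      rw [Scheme.Opens.range_ι]
      refine hpre _ ?_
      refine (congrArg (fun q => q.base w) (pullback.condition (f := V.hom) (g := f))).symm.trans ?_
      exact (congrArg V.hom.base hw).trans (hom_fiberPt p)
    have hl : (pullback.fst V.hom f).base ((pullback.lift (fiberHom p) ζ ((fiberHom_comp p).trans h.symm)).base default) =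
        fiberPt p :=
      congrArg (fun q : Spec (CommRingCat.of Ω) ⟶ V.left => q.base default) (pullback.lift_fst _ _ _)
    obtain ⟨a, ha⟩ := hm _ hl
    obtain ⟨b, hb⟩ := hm w hw
    have hab : (pullback.fst V.hom (O.ι ≫ f)).base a = (pullback.fst V.hom (O.ι ≫ f)).base b := by
      have hfst : m ≫ pullback.fst V.hom f = pullback.fst V.hom (O.ι ≫ f) := (pullback.lift_fst _ _ _).trans (Category.comp_id _)
      rw [← hfst, Scheme.Hom.comp_apply, Scheme.Hom.comp_apply, ha, hb]
      exact hl.trans hw.symm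
    exact ha.symm.trans ((congrArg m.base ((pullback.fst V.hom (O.ι ≫ f)).isOpenEmbedding.injective hab)).trans hb)
  · obtain rfl := huniq ξ' h'
    exact h0.trans (map_zero _).symm

/-- The unit is bijective on stalks over a point where `f` is an open immersion. -/
theorem isIso_stalk_unit (G : EtCoh.Ab Y) {η : Y} (hpre : ∀ z : X, f.base z = η → z ∈ O)
    (hne : η ∈ Set.range (O.ι ≫ f).base) {Ω : Type u} [Field Ω] [IsSepClosed Ω]
    (ξ : Spec (CommRingCat.of Ω) ⟶ Y) (hξ : Set.range ξ.base = {η}) :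
    IsIso ((EtCoh.stalk ξ).map ((EtCoh.pullPushAdj f).unit.app G)) := by
  have hd : ξ.base default = η := Set.eq_of_mem_singleton (hξ ▸ Set.mem_range_self _)
  have hr : Set.range ξ.base ⊆ Set.range (O.ι ≫ f).base := hξ ▸ Set.singleton_subset_iff.2 hne
  obtain ⟨ζ, rfl⟩ : ∃ ζ : Spec (CommRingCat.of Ω) ⟶ X, ζ ≫ f = ξ :=
    ⟨IsOpenImmersion.lift (O.ι ≫ f) ξ hr ≫ O.ι, by rw [Category.assoc, IsOpenImmersion.lift_fac]⟩
  let u := (EtCoh.stalk (ζ ≫ f)).map ((EtCoh.pullPushAdj f).unit.app G)
  let γ := (germTo f AddCommGrpCat.{u + 1} (rfl : ζ ≫ f = ζ ≫ f)).app ((EtCoh.pull f).obj G)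
  have h1 : Function.Bijective (fun x => γ (u x)) :=
    (ConcreteCategory.isIso_iff_bijective _).1 (UnitStalk.isIso_unitStalk f ζ AddCommGrpCat.{u + 1} G)
  refine (ConcreteCategory.isIso_iff_bijective _).2 ⟨fun a b hab => h1.1 (congrArg γ hab), fun z => ?_⟩
  obtain ⟨x, hx⟩ := h1.2 (γ z)
  exact ⟨x, germTo_injective f O rfl (fun z hz => hpre z (hz.trans hd)) _ hx⟩

/-- Cohomology in degree two of a curve along an integral morphism that is an open immersion at the maximal points. -/
theorem bijective_Hpull {k : Type u} [Field k] [IsSepClosed k] {X Y : Scheme.{u}} (f : X ⟶ Y) [IsIntegralHom f]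
    (O : X.Opens) [IsOpenImmersion (O.ι ≫ f)] (π : Y ⟶ Spec (CommRingCat.of k)) [LocallyOfFiniteType π]
    [QuasiCompact π] (hdim : topologicalKrullDim Y ≤ 1)
    (hO : ∀ η : Y, closure {η} ∈ irreducibleComponents ↥Y →
      η ∈ Set.range (O.ι ≫ f).base ∧ ∀ z : X, f.base z = η → z ∈ O)
    [PreservesFiniteLimits (EtCoh.pull f)] (G : EtCoh.Ab Y) :
    Function.Bijective (EtCore.Hpull f G 2) := by
  have hs := fun η (hη : closure {η} ∈ irreducibleComponents ↥Y) =>
    CurveGeneric.notMem_supp_of_isIso ((EtCoh.pullPushAdj f).unit.app G)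
      (η := η) (fun Ω i₁ i₂ ξ hξ => isIso_stalk_unit f O G (hO η hη).2 (hO η hη).1 ξ hξ)
  have hK := fun i hi => CurveGeneric.subsingleton_H π hdim (kernel ((EtCoh.pullPushAdj f).unit.app G))
    (fun η hη => (hs η hη).1) i hi
  have hC := fun i hi => CurveGeneric.subsingleton_H π hdim (cokernel ((EtCoh.pullPushAdj f).unit.app G))
    (fun η hη => (hs η hη).2) i hi
  have hb := CurveGeneric.bijective_comp ((EtCoh.pullPushAdj f).unit.app G) 1 (hK _ (by omega)) (hK _ (by omega))
    (hC _ (by omega)) (hC _ (by omega)) (P := EtCoh.const Y ℤ)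
  have hl := (LowLeray.lam_bijective f 2 ((EtCoh.pull f).obj G)
    (fun q h1 _ => Groth.Agent.Lib.EtSite.Push.isZero_Rpush f _ q h1)).1 2 le_rfl
  have he : (EtCore.Hpull f G 2 : _ → _) = LowLeray.lam f ((EtCoh.pull f).obj G) 2 ∘
      fun x : EtCoh.H Y G 2 => x.comp (Ext.mk₀ ((EtCoh.pullPushAdj f).unit.app G)) (add_zero 2) :=
    funext fun x => (LowLeray.Hpull_eq_lam f G 2 x).symm
  rw [he]
  exact hl.comp hb

end Groth.Agent.Lib.NormH2_28.Basic
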